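import Mathlib

set_option autoImplicit false
universe u v w u'

namespace Groth.Agent.DiagMon8

theorem card_generators (n : ℕ) (hn : 1 ≤ n) :
    (∃ s : Finset (Fin n → ℤ), s.card = n + 1 ∧ AddSubmonoid.closure (s : Set (Fin n → ℤ)) = ⊤) ∧
    ∀ s : Finset (Fin n → ℤ), AddSubmonoid.closure (s : Set (Fin n → ℤ)) = ⊤ → n + 1 ≤ s.card := by
  classical
  constructor
  · let e : Fin n → (Fin n → ℤ) := fun i => Pi.single i 1
    let o : Fin n → ℤ := fun _ => -1
    have he : Function.Injective e := fun i j h => by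
      by_contra hij
      simpa [e, Pi.single_apply, hij] using congrFun h i
    have ho : o ∉ Finset.univ.image e := by
      simp only [Finset.mem_image, Finset.mem_univ, true_and, not_exists]
      intro i h
      simpa [e, o] using congrFun h i
    refine ⟨insert o (Finset.univ.image e), ?_, ?_⟩
    · rw [Finset.card_insert_of_notMem ho, Finset.card_image_of_injective _ he, Finset.card_univ, Fintype.card_fin]
    · rw [eq_top_iff]
      intro x _
      set C := AddSubmonoid.closure ((insert o (Finset.univ.image e) : Finset _) : Set (Fin n → ℤ))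
      have hom : o ∈ C := AddSubmonoid.subset_closure (by simp)
      have hem : ∀ i, e i ∈ C := fun i => AddSubmonoid.subset_closure (by simp)
      let m : ℕ := (∑ i, |x i|).toNat
      have hm : ∀ i, 0 ≤ x i + m := fun i => by
        have h1 : |x i| ≤ ∑ j, |x j| := Finset.single_le_sum (fun j _ => abs_nonneg (x j)) (Finset.mem_univ i)
        have h2 : ∑ j, |x j| ≤ (m : ℤ) := Int.self_le_toNat _
        have := neg_abs_le (x i)
        omega
      have hx : x = m • o + ∑ i, (x i + m).toNat • e i := by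
        funext j
        simp [o, e, Pi.single_apply, Finset.sum_apply]
        rw [max_eq_left (hm j)]; ring
      rw [hx]
      exact C.add_mem (C.nsmul_mem hom m) (C.sum_mem fun i _ => C.nsmul_mem (hem i) _)
  · intro s hs
    by_contra hcard
    push Not at hcard
    have hspan : Submodule.span ℤ (s : Set (Fin n → ℤ)) = ⊤ := by
      rw [eq_top_iff]
      intro x _
      have : x ∈ AddSubmonoid.closure (s : Set (Fin n → ℤ)) := hs ▸ AddSubmonoid.mem_top x
      exact (AddSubmonoid.closure_le (S := (Submodule.span ℤ (s : Set (Fin n → ℤ))).toAddSubmonoid)).mpr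
        Submodule.subset_span this
    let L : (s → ℤ) →ₗ[ℤ] (Fin n → ℤ) := Fintype.linearCombination ℤ (fun v : s => (v : Fin n → ℤ))
    have hL : Function.Surjective L := by
      rw [← LinearMap.range_eq_top, Fintype.range_linearCombination]
      simpa using hspan
    obtain ⟨g⟩ : Nonempty (s ↪ Fin n) :=
      Function.Embedding.nonempty_of_card_le (by simp only [Fintype.card_coe, Fintype.card_fin]; omega)
    have hg : Function.Surjective (LinearMap.funLeft ℤ ℤ g) := LinearMap.funLeft_surjective_of_injective _ _ _ g.injective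
    have hinj : Function.Injective L := by
      have h1 : Function.Injective (L ∘ₗ LinearMap.funLeft ℤ ℤ g) :=
        OrzechProperty.injective_of_surjective_endomorphism _ (hL.comp hg)
      intro a b hab
      obtain ⟨a', rfl⟩ := hg a
      obtain ⟨b', rfl⟩ := hg b
      rw [h1 hab]
    obtain ⟨v, hv⟩ : s.Nonempty := by
      rw [Finset.nonempty_iff_ne_empty]
      rintro rfl
      rw [Finset.coe_empty, AddSubmonoid.closure_empty] at hs
      have h1 : (fun _ => 1 : Fin n → ℤ) ∈ (⊥ : AddSubmonoid (Fin n → ℤ)) := hs ▸ AddSubmonoid.mem_top _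
      simpa using congrFun (AddSubmonoid.mem_bot.mp h1) ⟨0, hn⟩
    obtain ⟨c, hc⟩ := AddSubmonoid.mem_closure_range_iff_of_fintype.mp
      (show -v ∈ AddSubmonoid.closure (Set.range (Subtype.val : s → (Fin n → ℤ))) by
        rw [show Set.range (Subtype.val : s → (Fin n → ℤ)) = (s : Set (Fin n → ℤ)) from Subtype.range_coe, hs]
        exact AddSubmonoid.mem_top _)
    have h1 : L (fun i => (c i : ℤ)) = L (-Pi.single ⟨v, hv⟩ 1) := by
      rw [map_neg]
      simp only [L, Fintype.linearCombination_apply_single, one_smul]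
      rw [Fintype.linearCombination_apply]
      simpa [natCast_zsmul] using hc.symm
    have := congrFun (hinj h1) ⟨v, hv⟩
    simp at this

theorem face_iff {N : Type u} [AddCommMonoid N] (F : AddSubmonoid N) :
    (∀ a b : AddMonoidAlgebra ℤ N,
        AddMonoidAlgebra.comapDomain ((↑) : F → N) Subtype.val_injective (a * b) =
          AddMonoidAlgebra.comapDomain ((↑) : F → N) Subtype.val_injective a *
            AddMonoidAlgebra.comapDomain ((↑) : F → N) Subtype.val_injective b) ↔
      ∀ x y : N, x + y ∈ F ↔ (x ∈ F ∧ y ∈ F) := by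
  classical
  let π := AddMonoidAlgebra.comapDomainAddMonoidHom (R := ℤ) ((↑) : F → N) Subtype.val_injective
  have hπ : ∀ (m : N) (r : ℤ), π (AddMonoidAlgebra.single m r) =
      if h : m ∈ F then AddMonoidAlgebra.single (⟨m, h⟩ : F) r else 0 := by
    intro m r
    split_ifs with h
    · exact AddMonoidAlgebra.comapDomain_single_map ((↑) : F → N) Subtype.val_injective ⟨m, h⟩ r
    · refine AddMonoidAlgebra.ext (Finsupp.ext fun x => ?_)
      have : m ≠ (x : N) := fun e => h (e ▸ x.2)
      simp [π, Finsupp.single_apply, this]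
  constructor
  · intro h x y
    refine ⟨fun hxy => ?_, fun hxy => F.add_mem hxy.1 hxy.2⟩
    have h1 : π (AddMonoidAlgebra.single x (1 : ℤ) * AddMonoidAlgebra.single y 1) =
        π (AddMonoidAlgebra.single x 1) * π (AddMonoidAlgebra.single y 1) := h _ _
    rw [AddMonoidAlgebra.single_mul_single, hπ, hπ, hπ, dif_pos hxy] at h1
    by_contra hne
    have h0 : AddMonoidAlgebra.single (⟨x + y, hxy⟩ : F) (1 * 1 : ℤ) = 0 := by
      rw [h1]
      by_cases hx : x ∈ F
      · rw [dif_neg (fun hy => hne ⟨hx, hy⟩), mul_zero]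
      · rw [dif_neg hx, zero_mul]
    simp [AddMonoidAlgebra.single_eq_zero] at h0
  · intro h a b
    show π (a * b) = π a * π b
    induction a using AddMonoidAlgebra.induction_linear with
    | zero => simp
    | add f g hf hg => simp [add_mul, hf, hg]
    | single m r =>
      induction b using AddMonoidAlgebra.induction_linear with
      | zero => simp
      | add f g hf hg => simp [mul_add, hf, hg]
      | single m' r' =>
        rw [AddMonoidAlgebra.single_mul_single, hπ, hπ, hπ]
        by_cases hm : m + m' ∈ F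
        · obtain ⟨h1, h2⟩ := (h m m').mp hm
          rw [dif_pos hm, dif_pos h1, dif_pos h2, AddMonoidAlgebra.single_mul_single]
          rfl
        · rw [dif_neg hm]
          by_cases h1 : m ∈ F
          · rw [dif_neg (fun h2 => hm (F.add_mem h1 h2)), mul_zero]
          · rw [dif_neg h1, zero_mul]

theorem exists_sdiff (M : Type u) [AddCommMonoid M] (N L L' : AddSubmonoid M)
    (hNL : N ≤ L) (hLL' : L ≤ L') (hface : ∀ x ∈ L', ∀ y ∈ L', x + y ∈ L ↔ (x ∈ L ∧ y ∈ L)) :
    ∃ N' : AddSubmonoid M, (N' : Set M) = (L' : Set M) \ ((L : Set M) \ (N : Set M)) ∧ N ≤ N' ∧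
      ∀ x ∈ N', ∀ y ∈ N', x + y ∈ N ↔ (x ∈ N ∧ y ∈ N) := by
  refine ⟨{ carrier := (L' : Set M) \ ((L : Set M) \ (N : Set M))
            zero_mem' := ⟨L'.zero_mem, fun h => h.2 N.zero_mem⟩
            add_mem' := ?_ }, rfl, fun x hx => ⟨hLL' (hNL hx), fun h => h.2 hx⟩, ?_⟩
  · rintro x y ⟨hx, hx'⟩ ⟨hy, hy'⟩
    refine ⟨L'.add_mem hx hy, fun ⟨h, hn⟩ => hn ?_⟩
    obtain ⟨h1, h2⟩ := (hface x hx y hy).mp h
    exact N.add_mem (not_not.mp fun c => hx' ⟨h1, c⟩) (not_not.mp fun c => hy' ⟨h2, c⟩)
  · rintro x ⟨hx, hx'⟩ y ⟨hy, hy'⟩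
    refine ⟨fun h => ?_, fun h => N.add_mem h.1 h.2⟩
    obtain ⟨h1, h2⟩ := (hface x hx y hy).mp (hNL h)
    exact ⟨not_not.mp fun c => hx' ⟨h1, c⟩, not_not.mp fun c => hy' ⟨h2, c⟩⟩

section graded

variable (R : Type u) [CommRing R] (A : Type v) [CommRing A] [Algebra R A] (M : Type w) [AddCommMonoid M]
  [DecidableEq M] (𝒜 : M → Submodule R A) [GradedAlgebra 𝒜]

theorem finite_range [Algebra.FiniteType R A] :
    (Set.range fun N : AddSubmonoid M => Ideal.span {a : A | ∃ m : M, m ∉ N ∧ a ∈ 𝒜 m}).Finite := by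
  classical
  obtain ⟨T, hT⟩ := (‹Algebra.FiniteType R A›).out
  let S : Finset (M × A) := T.biUnion fun t =>
    (DirectSum.decompose 𝒜 t).support.image fun m => (m, (DirectSum.decompose 𝒜 t m : A))
  have hS : ∀ p ∈ S, p.2 ∈ 𝒜 p.1 := by
    intro p hp
    simp only [S, Finset.mem_biUnion, Finset.mem_image] at hp
    obtain ⟨t, -, m, -, rfl⟩ := hp
    exact SetLike.coe_mem _
  refine Set.Finite.subset ((S.powerset.finite_toSet).image fun U : Finset (M × A) =>
    Ideal.span ((fun p : M × A => p.2) '' (U : Set (M × A)))) ?_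
  rintro _ ⟨N, rfl⟩
  refine ⟨S.filter fun p => p.1 ∉ N, Finset.mem_coe.mpr (Finset.mem_powerset.mpr (Finset.filter_subset _ _)), ?_⟩
  set K : Ideal A := Ideal.span ((fun p : M × A => p.2) '' (↑(S.filter fun p => p.1 ∉ N) : Set (M × A))) with hK
  show K = Ideal.span {a : A | ∃ m : M, m ∉ N ∧ a ∈ 𝒜 m}
  refine le_antisymm ?_ ?_
  · rw [hK, Ideal.span_le]
    rintro _ ⟨p, hp, rfl⟩
    simp only [Finset.coe_filter, Set.mem_setOf_eq] at hp
    exact Ideal.subset_span ⟨p.1, hp.2, hS p hp.1⟩
  · rw [Ideal.span_le]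
    rintro a ⟨m, hm, ha⟩
    -- components of every element in degrees outside N lie in K
    suffices ∀ x : A, ∀ d, d ∉ N → (DirectSum.decompose 𝒜 x d : A) ∈ K by
      have := this a m hm
      rwa [DirectSum.decompose_of_mem_same 𝒜 ha] at this
    intro x
    have hx : x ∈ Algebra.adjoin R (Prod.snd '' (S : Set (M × A))) := by
      have : Algebra.adjoin R (T : Set A) ≤ Algebra.adjoin R (Prod.snd '' (S : Set (M × A))) := by
        rw [Algebra.adjoin_le_iff]
        intro t ht
        rw [SetLike.mem_coe, ← DirectSum.sum_support_decompose 𝒜 t]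
        refine sum_mem fun d hd => Algebra.subset_adjoin ⟨(d, (DirectSum.decompose 𝒜 t d : A)), ?_, rfl⟩
        simp only [S, Finset.coe_biUnion, Set.mem_iUnion]
        exact ⟨t, ht, Finset.mem_image.mpr ⟨d, hd, rfl⟩⟩
      exact this (hT ▸ trivial)
    rw [← Subalgebra.mem_toSubmodule, Algebra.adjoin_eq_span] at hx
    induction hx using Submodule.span_induction with
    | zero => intro d _; simp
    | add x y _ _ hx hy =>
      intro d hd
      rw [DirectSum.decompose_add, DirectSum.add_apply, Submodule.coe_add]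
      exact K.add_mem (hx d hd) (hy d hd)
    | smul r x _ hx =>
      intro d hd
      rw [DirectSum.decompose_smul, DirectSum.smul_apply, Submodule.coe_smul]
      rw [Algebra.smul_def]
      exact K.mul_mem_left _ (hx d hd)
    | mem x hx =>
      have : ∃ e : M, x ∈ 𝒜 e ∧ (e ∈ N ∨ x ∈ K) := by
        induction hx using Submonoid.closure_induction with
        | one => exact ⟨0, SetLike.GradedOne.one_mem, Or.inl N.zero_mem⟩
        | mem y hy =>
          obtain ⟨p, hp, rfl⟩ := hy
          by_cases h : p.1 ∈ N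
          · exact ⟨p.1, hS p hp, Or.inl h⟩
          · exact ⟨p.1, hS p hp, Or.inr (Ideal.subset_span ⟨p, by simpa using ⟨hp, h⟩, rfl⟩)⟩
        | mul y z _ _ hy hz =>
          obtain ⟨e, he, he'⟩ := hy
          obtain ⟨e', hz1, hz'⟩ := hz
          refine ⟨e + e', SetLike.GradedMul.mul_mem he hz1, ?_⟩
          rcases he' with h | h
          · rcases hz' with h' | h'
            · exact Or.inl (N.add_mem h h')
            · exact Or.inr (K.mul_mem_left _ h')
          · exact Or.inr (K.mul_mem_right _ h)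
      obtain ⟨e, he, he'⟩ := this
      intro d hd
      by_cases hde : e = d
      · subst hde
        rw [DirectSum.decompose_of_mem_same 𝒜 he]
        exact he'.resolve_left hd
      · rw [DirectSum.decompose_of_mem_ne 𝒜 he hde]
        exact K.zero_mem

theorem pureMagnet (J : AddSubmonoid M → Ideal A)
    (hJ : ∀ N, J N = Ideal.span {a : A | ∃ m : M, m ∉ N ∧ a ∈ 𝒜 m}) (N₀ : AddSubmonoid M) :
    J (sInf {N | J N = J N₀}) = J N₀ ∧
      (∀ L, J (sInf {N | J N = J N₀}) = J L → sInf {N | J N = J N₀} ≤ L) ∧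
      ((∀ L, J N₀ = J L → N₀ ≤ L) → sInf {N | J N = J N₀} = N₀) := by
  have hanti : ∀ N L : AddSubmonoid M, N ≤ L → J L ≤ J N := fun N L h => by
    rw [hJ, hJ]
    exact Ideal.span_mono fun a ⟨m, hm, ha⟩ => ⟨m, fun h' => hm (h h'), ha⟩
  have h1 : J (sInf {N | J N = J N₀}) = J N₀ := by
    refine le_antisymm ?_ (hanti _ _ (sInf_le rfl))
    rw [hJ (sInf _), Ideal.span_le]
    rintro a ⟨m, hm, ha⟩
    rw [AddSubmonoid.mem_sInf] at hm
    push Not at hm
    obtain ⟨N, hN, hmN⟩ := hm
    rw [← (hN : J N = J N₀), hJ N]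
    exact Ideal.subset_span ⟨m, hmN, ha⟩
  exact ⟨h1, fun L hL => sInf_le (hL.symm.trans h1), fun h => le_antisymm (sInf_le rfl) (h _ h1.symm)⟩

theorem existsUnique_graded (N : AddSubmonoid M) (R' : Type u') [CommRing R']
    [Algebra R R'] (F : A →ₐ[R] R') (hF : ∀ m, m ∉ N → ∀ a ∈ 𝒜 m, F a = 0) :
    ∃! f : A →ₐ[R] AddMonoidAlgebra R' M,
      (∀ m, ∀ a ∈ 𝒜 m, f a =
          AddMonoidAlgebra.single m (Bialgebra.counitAlgHom R' (AddMonoidAlgebra R' M) (f a))) ∧
      (∀ m, m ∉ N → ∀ a ∈ 𝒜 m, f a = 0) ∧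
      ∀ a, Bialgebra.counitAlgHom R' (AddMonoidAlgebra R' M) (f a) = F a := by
  classical
  let φ : ∀ i, 𝒜 i →ₗ[R] AddMonoidAlgebra R' M := fun i =>
    { toFun := fun a => AddMonoidAlgebra.single i (F (a : A))
      map_add' := fun a b => by simp [AddMonoidAlgebra.single_add]
      map_smul' := fun r a => by simp [AddMonoidAlgebra.smul_single] }
  have h1 : φ 0 (GradedMonoid.GOne.one (A := fun i => 𝒜 i)) = 1 := by
    show AddMonoidAlgebra.single 0 (F 1) = 1
    rw [map_one, AddMonoidAlgebra.one_def]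
  have h2 : ∀ {i j} (ai : 𝒜 i) (aj : 𝒜 j),
      φ _ (GradedMonoid.GMul.mul (A := fun i => 𝒜 i) ai aj) = φ _ ai * φ _ aj := by
    intro i j ai aj
    show AddMonoidAlgebra.single (i + j) (F ((ai : A) * aj)) =
      AddMonoidAlgebra.single i (F (ai : A)) * AddMonoidAlgebra.single j (F (aj : A))
    rw [map_mul, AddMonoidAlgebra.single_mul_single]
  let f : A →ₐ[R] AddMonoidAlgebra R' M :=
    (DirectSum.toAlgebra R (fun i => 𝒜 i) φ h1 @h2).comp (DirectSum.decomposeAlgEquiv 𝒜).toAlgHom
  have hf : ∀ m a, a ∈ 𝒜 m → f a = AddMonoidAlgebra.single m (F a) := by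
    intro m a ha
    show DirectSum.toAlgebra R (fun i => 𝒜 i) φ h1 @h2 (DirectSum.decompose 𝒜 a) = _
    rw [DirectSum.decompose_of_mem 𝒜 ha]
    exact DirectSum.toSemiring_of (fun i => (φ i).toAddMonoidHom) h1 @h2 m (⟨a, ha⟩ : 𝒜 m)
  have hε : ∀ m (r : R'), Bialgebra.counitAlgHom R' (AddMonoidAlgebra R' M) (AddMonoidAlgebra.single m r) = r :=
    fun m r => by simp
  refine ⟨f, ⟨fun m a ha => by rw [hf m a ha, hε], fun m hm a ha => by rw [hf m a ha, hF m hm a ha]; simp,
    fun a => ?_⟩, ?_⟩
  · induction a using DirectSum.Decomposition.inductionOn 𝒜 with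
    | zero => simp
    | homogeneous a => rw [hf _ _ a.2, hε]
    | add a b ha hb => simp [map_add, ha, hb]
  · rintro g ⟨hg1, -, hg3⟩
    ext a : 1
    induction a using DirectSum.Decomposition.inductionOn 𝒜 with
    | zero => simp
    | homogeneous a => rw [hg1 _ _ a.2, hg3, hf _ _ a.2]
    | add a b ha hb => rw [map_add, map_add, ha, hb]

end graded

theorem flat_diag (R : Type u) [CommRing R] (N : Type v) [AddCommGroup N] :
    (AddMonoidAlgebra.mapDomainRingHom R ((AddMonoidHom.id N).prod (AddMonoidHom.id N))).Flat := by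
  let e : N × N ≃+ N × N :=
    { toFun := fun p => (p.2 - p.1, p.1)
      invFun := fun p => (p.2, p.1 + p.2)
      left_inv := fun p => by simp
      right_inv := fun p => by simp
      map_add' := fun p q => by ext <;> simp <;> abel }
  let Φ : AddMonoidAlgebra R (N × N) ≃+* AddMonoidAlgebra (AddMonoidAlgebra R N) N :=
    (AddMonoidAlgebra.mapDomainRingEquiv R e).trans AddMonoidAlgebra.curryRingEquiv
  have hΦ : Φ.toRingHom.comp
      (AddMonoidAlgebra.mapDomainRingHom R ((AddMonoidHom.id N).prod (AddMonoidHom.id N))) =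
      algebraMap (AddMonoidAlgebra R N) (AddMonoidAlgebra (AddMonoidAlgebra R N) N) := by
    ext x <;> simp [Φ, e, AddMonoidAlgebra.one_def]
  have h := RingHom.flat_algebraMap_iff.mpr
    (inferInstance : Module.Flat (AddMonoidAlgebra R N) (AddMonoidAlgebra (AddMonoidAlgebra R N) N))
  rw [← hΦ] at h
  exact (RingHom.Flat.comp_iff_of_bijective_left Φ.bijective).mp h

end Groth.Agent.DiagMon8
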